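import Groth.Agent.DerivedCoh.KFlat.Amplitude
import Groth.Agent.DerivedCoh.KFlat.LpullComp
import Groth.Agent.DerivedCoh.KFlat.RpushComp
import Groth.Agent.DerivedAdj.Basic
import Mathlib.CategoryTheory.Functor.Derived.Adjunction

/-!
The derived adjunction `Lf^* ⊣ Rf_*`.
-/

set_option autoImplicit false

universe u

open CategoryTheory CategoryTheory.Limits AlgebraicGeometry HomologicalComplex
open Groth.DerivedCoh.KFlat (T IsKFlat flatResolution flatResolutionAug pullCounit)

namespace Groth.DerivedCoh.PushPull

attribute [local instance] HasDerivedCategory.standard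

noncomputable section

local notation "up" => ComplexShape.up ℤ

variable {X Y : Scheme.{u}} (f : X ⟶ Y)

/-- `Lf^*` is an absolute left derived functor. -/
theorem isLeftDerivedFunctor_Lpull_comp [DCoh.HasLpull f] {H : Type*} [Category* H] (G : DCoh.D X ⥤ H) :
    (DCoh.Lpull f ⋙ G).IsLeftDerivedFunctor
      ((Functor.associator _ _ _).inv ≫ Functor.whiskerRight (pullCounit f) G)
      (HomotopyCategory.quasiIso Y.Modules up) := by
  let q := HomotopyCategory.quotient Y.Modules up
  let F : HomotopyCategory Y.Modules up ⥤ H := DCoh.pullKh f ⋙ G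
  have hiso : ∀ {E E' : CochainComplex Y.Modules ℤ}, IsKFlat (T Y) E → IsKFlat (T Y) E' →
      ∀ (a : E ⟶ E') [QuasiIso a], IsIso ((q ⋙ F).map a) := fun hE hE' a _ => by
    have : IsIso ((q ⋙ DCoh.pullKh f).map a) := KFlat.isIso_pullKh_map f hE hE' a
    exact inferInstanceAs (IsIso (G.map ((q ⋙ DCoh.pullKh f).map a)))
  obtain ⟨LF, α, hα, hα'⟩ := exists_isRightKanExtension_of_resolution
    (q ⋙ DerivedCategory.Qh) (HomologicalComplex.quasiIso Y.Modules up) (q ⋙ F)
    (flatResolution Y) (flatResolutionAug Y)
    (fun K => (HomologicalComplex.mem_quasiIso_iff _).2 (KFlat.flatResolution_quasiIso K))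
    (fun K L w hw => by
      have : QuasiIso w := (HomologicalComplex.mem_quasiIso_iff w).1 hw
      have := KFlat.flatResolution_quasiIso K
      have := KFlat.flatResolution_quasiIso L
      have e := (flatResolutionAug Y).naturality w
      have : QuasiIso ((flatResolution Y).map w ≫ (flatResolutionAug Y).app L) := by
        rw [e]
        change QuasiIso ((flatResolutionAug Y).app K ≫ w)
        infer_instance
      have : QuasiIso ((flatResolution Y).map w) :=
        quasiIso_of_comp_right _ ((flatResolutionAug Y).app L)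
      exact hiso (KFlat.flatResolution_isKFlat K) (KFlat.flatResolution_isKFlat L) _)
    (fun K => by
      have := KFlat.flatResolution_quasiIso ((flatResolution Y).obj K)
      exact hiso (KFlat.flatResolution_isKFlat _) (KFlat.flatResolution_isKFlat K) _)
  obtain ⟨α', hα₂, happ⟩ :=
    exists_isRightKanExtension_of_precomp q DerivedCategory.Qh F α hα
  let β : DerivedCategory.Qh ⋙ (DCoh.Lpull f ⋙ G) ⟶ F :=
    (Functor.associator _ _ _).inv ≫ Functor.whiskerRight (pullCounit f) G
  let γ := LF.liftOfIsRightKanExtension α' (DCoh.Lpull f ⋙ G) β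
  have hγ : ∀ Z, γ.app (DerivedCategory.Qh.obj Z) ≫ α'.app Z = β.app Z :=
    LF.liftOfIsRightKanExtension_fac_app α' _ β
  have hR : ∀ K, IsIso (γ.app (DerivedCategory.Qh.obj (q.obj ((flatResolution Y).obj K)))) := fun K => by
    let P := (flatResolution Y).obj K
    have := KFlat.flatResolution_quasiIso P
    have h1 : IsIso (α'.app (q.obj P)) := by
      rw [happ]
      exact hα' P (hiso (KFlat.flatResolution_isKFlat _) (KFlat.flatResolution_isKFlat K) _)
    have h2 : IsIso (β.app (q.obj P)) := by
      have := KFlat.isIso_pullCounit_app f P (KFlat.flatResolution_isKFlat K)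
      change IsIso (𝟙 _ ≫ G.map ((pullCounit f).app (q.obj P)))
      infer_instance
    rw [← hγ (q.obj P)] at h2
    exact IsIso.of_isIso_comp_right _ (α'.app (q.obj P))
  have hall : ∀ Z, IsIso (γ.app Z) := fun Z => by
    obtain ⟨K, hK⟩ := HomotopyCategory.quotient_obj_surjective ((DerivedCategory.Qh (C := Y.Modules)).objPreimage Z)
    have := KFlat.flatResolution_quasiIso K
    have : IsIso (DerivedCategory.Qh.map (q.map ((flatResolutionAug Y).app K))) :=
      KFlat.isIso_L₀_map ((flatResolutionAug Y).app K)
    have := hR K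
    exact (NatTrans.isIso_app_iff_of_iso γ
      (asIso (DerivedCategory.Qh.map (q.map ((flatResolutionAug Y).app K))) ≪≫
        DerivedCategory.Qh.mapIso (eqToIso hK) ≪≫ DerivedCategory.Qh.objObjPreimageIso Z)).1 this
  have := NatIso.isIso_of_isIso_app γ
  refine ⟨?_⟩
  refine (Functor.isRightKanExtension_iff_of_iso (asIso γ) β α' ?_).2 hα₂
  ext Z
  exact hγ Z

/-- The derived adjunction `Lf^* ⊣ Rf_*`. -/
def lpullRpushAdj [DCoh.HasLpull f] [DCoh.HasRpush f] : DCoh.Lpull f ⊣ DCoh.Rpush f :=
  letI α := pullCounit f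
  letI β := (DCoh.pushKh f).totalRightDerivedUnit DerivedCategory.Qh
    (HomotopyCategory.quasiIso X.Modules up)
  haveI := isLeftDerivedFunctor_Lpull_comp f (DCoh.Rpush f)
  haveI : (DCoh.Rpush f ⋙ DCoh.Lpull f).IsRightDerivedFunctor
      (Functor.whiskerRight β (DCoh.Lpull f) ≫ (Functor.associator _ _ _).hom)
      (HomotopyCategory.quasiIso X.Modules up) :=
    DerivedAdj.isRightDerivedFunctor_comp _ (DCoh.Rpush f) β
      (DerivedAdj.exists_good (KFlat.enoughKInj X)) _
  (DerivedAdj.mapHomotopyCategoryAdj (Scheme.Modules.pullbackPushforwardAdjunction f) up).derived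
    (HomotopyCategory.quasiIso Y.Modules up) (HomotopyCategory.quasiIso X.Modules up) α β

end

end Groth.DerivedCoh.PushPull
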