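import Groth.Agent.DerivedCoh.PushPull.RpushTilde
import Groth.Agent.DerivedCoh.PCohDescent.Main
import Groth.Agent.DerivedCoh.TildeD.Iff
import Groth.Agent.Misc4.PushRestrict
import Groth.Agent.RelPC.Affine
import Groth.Agent.PropsBasic2.TildeExact
import Groth.Agent.S6940

/-!
Pseudo-coherence and direct images along finite morphisms.
-/

set_option autoImplicit false
set_option backward.isDefEq.respectTransparency false

universe u

open CategoryTheory CategoryTheory.Limits AlgebraicGeometry HomologicalComplex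
open Groth.KTheory.Perf
open Groth.DerivedCoh.KFlat (L₀ L₀Q kres kresAug pushCx RpushResIso)

namespace Groth.DerivedCoh.PushPull

attribute [local instance] HasDerivedCategory.standard
attribute [local instance] Groth.PropsBasic2.preservesFiniteLimits_tilde

noncomputable section

variable {X Y : Scheme.{u}}

lemma hasRpush (f : X ⟶ Y) : DCoh.HasRpush f :=
  Groth.Misc4.PushRestrict.hasRightDerived (Scheme.Modules.pushforward f)

/-- inverse images along an isomorphism form an equivalence -/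
def pullEquiv (e : X ≅ Y) : Y.Modules ≌ X.Modules :=
  CategoryTheory.Equivalence.mk (Scheme.Modules.pullback e.hom) (Scheme.Modules.pullback e.inv)
    ((Scheme.Modules.pullbackId Y).symm ≪≫ Scheme.Modules.pullbackCongr e.inv_hom_id.symm ≪≫
      (Scheme.Modules.pullbackComp e.inv e.hom).symm)
    (Scheme.Modules.pullbackComp e.hom e.inv ≪≫ Scheme.Modules.pullbackCongr e.hom_inv_id ≪≫
      Scheme.Modules.pullbackId X)

/-- direct image along an isomorphism is restriction along the inverse -/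
def pushIsoRestrict (e : X ≅ Y) :
    Scheme.Modules.pushforward e.hom ≅ Scheme.Modules.restrictFunctor e.inv :=
  (Scheme.Modules.pullbackPushforwardAdjunction e.hom).rightAdjointUniq (pullEquiv e).toAdjunction ≪≫
    (Scheme.Modules.restrictFunctorIsoPullback e.inv).symm

theorem nonempty_Rpush_iso (e : X ≅ Y) [DCoh.HasRpush e.hom] (K : DCoh.D X) :
    Nonempty ((DCoh.Rpush e.hom).obj K ≅ (Rd e.inv).obj K) := by
  obtain ⟨F, ⟨i⟩⟩ := exists_rep K
  have : IsIso (DerivedCategory.Q.map ((kresAug X).app F)) :=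
    (DerivedCategory.isIso_Q_map_iff_quasiIso _ _).2 inferInstance
  let r : DCoh.toD X ((kres X).obj F) ≅ K := (asIso (DerivedCategory.Q.map ((kresAug X).app F))).symm ≪≫ i
  exact ⟨(DCoh.Rpush e.hom).mapIso (i.symm ≪≫ (L₀Q X).symm.app F) ≪≫ (RpushResIso e.hom).app F ≪≫
    (L₀Q Y).app _ ≪≫
    DerivedCategory.Q.mapIso ((NatIso.mapHomologicalComplex (pushIsoRestrict e) (ComplexShape.up ℤ)).app _) ≪≫
    (rdQIso e.inv _).symm ≪≫ (Rd e.inv).mapIso r⟩

lemma pcoh_rd_iso_iff (e : X ≅ Y) (m : ℤ) (K : DCoh.D Y) :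
    DCoh.IsPseudoCoherentD m ((Rd e.hom).obj K) ↔ DCoh.IsPseudoCoherentD m K := by
  refine ⟨fun h => ?_, PCohDescent.pcoh_rd e.hom⟩
  obtain ⟨c⟩ := nonempty_rdComp (k := e.inv) (j := e.hom) (l := 𝟙 Y) e.inv_hom_id.symm K
  have h1 := PCoh.isPseudoCoherentD_of_iso c.symm (PCohDescent.pcoh_rd e.inv h)
  refine PCoh.isPseudoCoherentD_of_local fun y => ⟨⊤, trivial, ?_⟩
  obtain ⟨c'⟩ := nonempty_rdComp (k := (⊤ : Y.Opens).ι) (j := 𝟙 Y) (l := (⊤ : Y.Opens).ι)
    (Category.comp_id _).symm K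
  exact PCoh.isPseudoCoherentD_of_iso c'.symm (PCohDescent.pcoh_rd _ h1)

section Chart

variable (f : X ⟶ Y) [IsAffineHom f] {W : Y.Opens} (hW : IsAffineOpen W)

lemma morphismRestrict_eq_chart :
    f ∣_ W = (hW.preimage f).isoSpec.hom ≫ Spec.map (f.appLE W (f ⁻¹ᵁ W) le_rfl) ≫ hW.isoSpec.inv := by
  rw [← cancel_mono W.ι, morphismRestrict_ι, Category.assoc, Category.assoc, hW.isoSpec_inv_ι,
    IsAffineOpen.SpecMap_appLE_fromSpec f hW (hW.preimage f), IsAffineOpen.isoSpec_hom_fromSpec_assoc]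

/-- direct image of modules on charts -/
theorem nonempty_push_chart (M : X.Modules) :
    Nonempty (((Scheme.Modules.pushforward f).obj M).restrict hW.fromSpec ≅
      (Scheme.Modules.pushforward (Spec.map (f.appLE W (f ⁻¹ᵁ W) le_rfl))).obj
        (M.restrict (hW.preimage f).fromSpec)) := by
  let eW := hW.isoSpec
  let eU := (hW.preimage f).isoSpec
  let g := Spec.map (f.appLE W (f ⁻¹ᵁ W) le_rfl)
  let N := M.restrict (f ⁻¹ᵁ W).ι
  have h1 : f ∣_ W ≫ eW.hom = eU.hom ≫ g := by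
    rw [morphismRestrict_eq_chart f hW]; simp [eW, eU, g]
  exact ⟨(Scheme.Modules.restrictFunctorCongr (hW.isoSpec_inv_ι).symm).app _ ≪≫
    (Scheme.Modules.restrictFunctorComp eW.inv W.ι).app _ ≪≫
    (Scheme.Modules.restrictFunctor eW.inv).mapIso ((Groth.RelPC.pushRestrictIso f W).app M) ≪≫
    (pushIsoRestrict eW).symm.app _ ≪≫ (Scheme.Modules.pushforwardComp (f ∣_ W) eW.hom).app N ≪≫
    (Scheme.Modules.pushforwardCongr h1).app N ≪≫
    ((Scheme.Modules.pushforwardComp eU.hom g).app N).symm ≪≫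
    (Scheme.Modules.pushforward g).mapIso ((pushIsoRestrict eU).app N ≪≫
      ((Scheme.Modules.restrictFunctorComp eU.inv (f ⁻¹ᵁ W).ι).app M).symm ≪≫
      (Scheme.Modules.restrictFunctorCongr (hW.preimage f).isoSpec_inv_ι).app M)⟩

/- derived direct image on charts -/
set_option maxHeartbeats 1000000 in
theorem nonempty_Rpush_chart [DCoh.HasRpush f]
    [DCoh.HasRpush (Spec.map (f.appLE W (f ⁻¹ᵁ W) le_rfl))] (E : DCoh.D X) :
    Nonempty ((Rd W.ι).obj ((DCoh.Rpush f).obj E) ≅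
      (Rd hW.isoSpec.hom).obj ((DCoh.Rpush (Spec.map (f.appLE W (f ⁻¹ᵁ W) le_rfl))).obj
        ((Rd (hW.preimage f).fromSpec).obj E))) := by
  let eW := hW.isoSpec
  let eU := (hW.preimage f).isoSpec
  let g := Spec.map (f.appLE W (f ⁻¹ᵁ W) le_rfl)
  have := hasRpush (f ∣_ W)
  have := hasRpush eU.hom
  have : DCoh.HasRpush eW.symm.hom := hasRpush _
  have := hasRpush (g ≫ eW.symm.hom)
  have := hasRpush (eU.hom ≫ g ≫ eW.symm.hom)
  obtain ⟨a⟩ := Groth.Misc4.PushRestrict.restrictD_Rpush_iso f W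
  obtain ⟨b⟩ := KFlat.Rpush_comp_iso eU.hom (g ≫ eW.symm.hom)
  obtain ⟨c⟩ := KFlat.Rpush_comp_iso g eW.symm.hom
  obtain ⟨d⟩ := nonempty_Rpush_iso eU ((Rd (f ⁻¹ᵁ W).ι).obj E)
  obtain ⟨e⟩ := nonempty_rdComp (k := eU.inv) (j := (f ⁻¹ᵁ W).ι) (l := (hW.preimage f).fromSpec)
    (hW.preimage f).isoSpec_inv_ι.symm E
  obtain ⟨k⟩ := nonempty_Rpush_iso eW.symm ((DCoh.Rpush g).obj ((Rd (hW.preimage f).fromSpec).obj E))
  have key : ∀ {g' : (f ⁻¹ᵁ W : Scheme.{u}) ⟶ W} [DCoh.HasRpush g'] (_ : f ∣_ W = g') (K : DCoh.D _),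
      Nonempty ((DCoh.Rpush (f ∣_ W)).obj K ≅ (DCoh.Rpush g').obj K) := by
    rintro g' _ rfl K
    exact ⟨Iso.refl _⟩
  obtain ⟨h⟩ := key (g' := eU.hom ≫ g ≫ eW.symm.hom) (morphismRestrict_eq_chart f hW)
    ((Rd (f ⁻¹ᵁ W).ι).obj E)
  let a' : (Rd W.ι).obj ((DCoh.Rpush f).obj E) ≅ (DCoh.Rpush (f ∣_ W)).obj ((Rd (f ⁻¹ᵁ W).ι).obj E) :=
    a.app E
  let b' : (DCoh.Rpush (eU.hom ≫ g ≫ eW.symm.hom)).obj ((Rd (f ⁻¹ᵁ W).ι).obj E) ≅
      (DCoh.Rpush (g ≫ eW.symm.hom)).obj ((DCoh.Rpush eU.hom).obj ((Rd (f ⁻¹ᵁ W).ι).obj E)) :=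
    (b.app _).symm
  let c' : (DCoh.Rpush (g ≫ eW.symm.hom)).obj ((Rd (hW.preimage f).fromSpec).obj E) ≅
      (DCoh.Rpush eW.symm.hom).obj ((DCoh.Rpush g).obj ((Rd (hW.preimage f).fromSpec).obj E)) :=
    (c.app _).symm
  exact ⟨a' ≪≫ h ≪≫ b' ≪≫ (DCoh.Rpush _).mapIso (d ≪≫ e.symm) ≪≫ c' ≪≫ k⟩

end Chart

/-- Pseudo-coherence is insensitive to a finite direct image with pseudo-coherent algebra. -/
theorem pcoh_Rpush_finite_iff (f : X ⟶ Y) [IsAffineHom f] [DCoh.HasRpush f]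
    (hO : ∀ m : ℤ, DCoh.IsPseudoCoherentD m
      (DCoh.inD Y ((Scheme.Modules.pushforward f).obj (Coh.structureModule X))))
    (E : DCoh.D X) (hE : DCoh.IsQCohD E) (m : ℤ) :
    DCoh.IsPseudoCoherentD m E ↔ DCoh.IsPseudoCoherentD m ((DCoh.Rpush f).obj E) := by
  have key : ∀ (W : Y.Opens), IsAffineOpen W →
      (DCoh.IsPseudoCoherentD m ((Rd (f ⁻¹ᵁ W).ι).obj E) ↔
        DCoh.IsPseudoCoherentD m ((Rd W.ι).obj ((DCoh.Rpush f).obj E))) := by
    intro W hW
    let U := f ⁻¹ᵁ W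
    have hU : IsAffineOpen U := hW.preimage f
    let φ := (f.appLE W U le_rfl).hom
    let g := Spec.map (f.appLE W U le_rfl)
    have : DCoh.HasRpush (Spec.map (CommRingCat.ofHom φ)) := hasRpush _
    letI := φ.toAlgebra
    have hB : DRing.IsPseudoCoherentModule' Γ(Y, W) Γ(X, U) := by
      obtain ⟨e⟩ := nonempty_push_chart f hW (Coh.structureModule X)
      obtain ⟨e'⟩ := Groth.RelPC.nonempty_push_structure_iso φ
      let eT := e ≪≫ (Scheme.Modules.pushforward _).mapIso (Scheme.Modules.restrictUnitIso hU.fromSpec) ≪≫ e'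
      refine Groth.DAlg.isPseudoCoherent'_iff_forall.2 fun n =>
        (TildeD.isPseudoCoherentD_tildeD_iff _ n).1 (PCoh.isPseudoCoherentD_of_iso ?_
          (PCohDescent.pcoh_rd hW.fromSpec (hO n)))
      exact PCoh.rdInDIso _ _ ≪≫
        DerivedCategory.Q.mapIso ((HomologicalComplex.single _ (ComplexShape.up ℤ) 0).mapIso eT ≪≫
          ((HomologicalComplex.singleMapHomologicalComplex (tilde.functor (CommRingCat.of Γ(Y, W)))
            (ComplexShape.up ℤ) 0).app _).symm) ≪≫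
        ((tilde.functor (CommRingCat.of Γ(Y, W))).mapDerivedCategoryFactors.app _).symm
    obtain ⟨M, ⟨eM⟩⟩ := (Groth.Misc4.QCohTildeD.isQCohD_iff _ _).1
      (Groth.Misc4.QCohDPerf.isQCohD_restrict hU.fromSpec hE)
    obtain ⟨a⟩ := nonempty_Rpush_chart f hW E
    obtain ⟨b⟩ := nonempty_tildeD_Rpush φ
    obtain ⟨c⟩ := nonempty_rdComp (k := hU.isoSpec.hom) (j := hU.fromSpec) (l := U.ι)
      hU.isoSpec_hom_fromSpec.symm E
    let d := a ≪≫ (Rd hW.isoSpec.hom).mapIso ((DCoh.Rpush _).mapIso eM.symm ≪≫ b.app M)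
    have h1 : DCoh.IsPseudoCoherentD m ((Rd W.ι).obj ((DCoh.Rpush f).obj E)) ↔
        DRing.IsPseudoCoherent Γ(Y, W) m ((DRing.restrictD φ).obj M) :=
      ⟨fun h => (TildeD.isPseudoCoherentD_tildeD_iff _ m).1
          ((pcoh_rd_iso_iff hW.isoSpec m _).1 (PCoh.isPseudoCoherentD_of_iso d h)),
        fun h => PCoh.isPseudoCoherentD_of_iso d.symm
          ((pcoh_rd_iso_iff hW.isoSpec m _).2 ((TildeD.isPseudoCoherentD_tildeD_iff _ m).2 h))⟩
    have h2 : DCoh.IsPseudoCoherentD m ((Rd U.ι).obj E) ↔ DRing.IsPseudoCoherent Γ(X, U) m M :=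
      ⟨fun h => (TildeD.isPseudoCoherentD_tildeD_iff _ m).1 (PCoh.isPseudoCoherentD_of_iso eM.symm
          ((pcoh_rd_iso_iff hU.isoSpec m _).1 (PCoh.isPseudoCoherentD_of_iso c h))),
        fun h => PCoh.isPseudoCoherentD_of_iso c.symm ((pcoh_rd_iso_iff hU.isoSpec m _).2
          (PCoh.isPseudoCoherentD_of_iso eM ((TildeD.isPseudoCoherentD_tildeD_iff _ m).2 h)))⟩
    exact h2.trans ((Groth.Agent.S6940.result hB M m).1.trans h1.symm)
  constructor
  · intro h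
    refine PCoh.isPseudoCoherentD_of_local fun y => ?_
    obtain ⟨W, hW, hy, -⟩ := exists_isAffineOpen_mem_and_subset (x := y) (U := ⊤) trivial
    exact ⟨W, hy, (key W hW).1 (PCohDescent.pcoh_rd _ h)⟩
  · intro h
    refine PCoh.isPseudoCoherentD_of_local fun x => ?_
    obtain ⟨W, hW, hy, -⟩ := exists_isAffineOpen_mem_and_subset (x := f x) (U := ⊤) trivial
    exact ⟨f ⁻¹ᵁ W, hy, (key W hW).2 (PCohDescent.pcoh_rd _ h)⟩

end

end Groth.DerivedCoh.PushPull
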