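import Groth.Agent.DerivedCoh.PushPull.Adjunction
import Groth.Agent.Misc4.QCohRpushD
import Groth.Agent.Misc4.QCohTildeD
import Groth.Agent.DerivedCoh.KFlat.Lpull
import Groth.Agent.DAlg.LeftDerived
import Groth.Agent.S1055
import Mathlib.CategoryTheory.Adjunction.Restrict

/-!
`Rf_*` of `M~` for a map of affine schemes.
-/

set_option autoImplicit false

universe u

open CategoryTheory CategoryTheory.Limits AlgebraicGeometry

namespace Groth.DerivedCoh.PushPull

attribute [local instance] HasDerivedCategory.standard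

theorem nonempty_tildeD_Rpush {A B : Type u} [CommRing A] [CommRing B] (φ : A →+* B)
    [PreservesFiniteLimits (tilde.functor (CommRingCat.of A))]
    [PreservesFiniteLimits (tilde.functor (CommRingCat.of B))]
    [DCoh.HasRpush (Spec.map (CommRingCat.ofHom φ))] :
    Nonempty (DCoh.tildeD (CommRingCat.of B) ⋙ DCoh.Rpush (Spec.map (CommRingCat.ofHom φ)) ≅
      DRing.restrictD φ ⋙ DCoh.tildeD (CommRingCat.of A)) := by
  let f := Spec.map (CommRingCat.ofHom φ)
  have := KFlat.hasLpull f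
  have := Groth.DAlg.hasLBaseChange φ
  let tA := DCoh.tildeD (CommRingCat.of A)
  let tB := DCoh.tildeD (CommRingCat.of B)
  have : tA.Full := ⟨fun {M N} g => (Misc4.QCohTildeD.bijective_map _ M N).2 g⟩
  have : tA.Faithful := ⟨fun {M N} _ _ h => (Misc4.QCohTildeD.bijective_map _ M N).1 h⟩
  have : tB.Full := ⟨fun {M N} g => (Misc4.QCohTildeD.bijective_map _ M N).2 g⟩
  have : tB.Faithful := ⟨fun {M N} _ _ h => (Misc4.QCohTildeD.bijective_map _ M N).1 h⟩
  let G := tB ⋙ DCoh.Rpush f
  have hG : ∀ M, tA.essImage (G.obj M) := fun M =>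
    (Misc4.QCohTildeD.isQCohD_iff _ _).1
      (Misc4.QCohRpushD.isQCohD f _ ((Misc4.QCohTildeD.isQCohD_iff _ _).2 ⟨M, ⟨Iso.refl _⟩⟩))
  let H := ObjectProperty.lift tA.essImage G hG ⋙ tA.toEssImage.asEquivalence.inverse
  let c₂ : G ≅ H ⋙ tA :=
    (Functor.isoWhiskerLeft (ObjectProperty.lift tA.essImage G hG)
      (Functor.isoWhiskerRight tA.toEssImage.asEquivalence.counitIso tA.essImage.ι)).symm ≪≫
      Functor.isoWhiskerLeft (ObjectProperty.lift tA.essImage G hG ⋙ tA.toEssImage.asEquivalence.inverse)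
        tA.toEssImageCompι
  obtain ⟨c₁⟩ := Groth.Agent.S1055.result φ
  let adj : DRing.LBaseChange φ ⊣ H :=
    (lpullRpushAdj f).restrictFullyFaithful (Functor.FullyFaithful.ofFullyFaithful tA)
      (Functor.FullyFaithful.ofFullyFaithful tB) c₁.symm c₂
  exact ⟨c₂ ≪≫ Functor.isoWhiskerRight (adj.rightAdjointUniq (Groth.DAlg.lBaseChangeAdj φ)) tA⟩

end Groth.DerivedCoh.PushPull
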